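import Groth.Prelude.Def_HensSch
import Groth.Agent.H26Hens.Algebra
import Groth.Agent.H9Hens.PairNoetherian
import Groth.Agent.H9Hens.PairOps
import Mathlib

/-!
# A Henselized local ring against the quotients by powers of the ideal

`HasCharts` records what an affine Henselian chart gives at a point.
-/

set_option autoImplicit false
set_option linter.style.haveILetI false
set_option linter.unusedSectionVars false

noncomputable section

universe u

open TensorProduct

namespace Groth.Agent.LeadHens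

variable {O S : Type u} [CommRing O] [CommRing S] [Algebra O S]

/-- Compatible retractions onto the quotients, through Noetherian local rings. -/
def HasCharts (𝔞 : Ideal O) : Prop :=
  ∃ ρ : ∀ n : ℕ, S →+* O ⧸ 𝔞 ^ n, (∀ n, (ρ n).comp (algebraMap O S) = Ideal.Quotient.mk (𝔞 ^ n)) ∧
    ∀ F : Finset S, ∃ (L : Type u) (_ : CommRing L) (_ : IsLocalRing L) (_ : IsNoetherianRing L)
      (τ : O →+* L) (h : L →+* S), h.comp τ = algebraMap O S ∧ 𝔞.map τ ≤ IsLocalRing.maximalIdeal L ∧
        (↑F : Set S) ⊆ Set.range h ∧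
        ∀ (n : ℕ) (β : L) (a : O), Ideal.Quotient.mk (𝔞 ^ n) a = ρ n (h β) → β - τ a ∈ (𝔞 ^ n).map τ

/-- A homomorphism from an away-Henselization into a quotient by a nilpotent ideal is determined on the base. -/
theorem away_hom_ext {R B C : Type u} [CommRing R] [CommRing B] [CommRing C] {J : Ideal R} {f : R} {φ : R →+* B}
    (hB : HensSch.IsHensAway R J f B φ) (g g' : B →+* C) (he : g.comp φ = g'.comp φ)
    (hnil : ∀ r ∈ J, IsNilpotent (g (φ r))) : g = g' := by
  have hJ : HenselianRing C (J.map (g.comp φ)) := H9Hens.henselianRing_of_isNilpotent fun x hx => by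
    have : J.map (g.comp φ) ≤ nilradical C := Ideal.map_le_iff_le_comap.2 fun r hr => hnil r hr
    exact this hx
  exact (hB.2.2 C _ (g.comp φ) hJ le_rfl (hB.1.map g)).unique rfl he.symm

theorem exists_away_hom {R B C : Type u} [CommRing R] [CommRing B] [CommRing C] {J : Ideal R} {f : R} {φ : R →+* B}
    (hB : HensSch.IsHensAway R J f B φ) (g : R →+* C) (hu : IsUnit (g f)) (hnil : ∀ r ∈ J, IsNilpotent (g r)) :
    ∃ h : B →+* C, h.comp φ = g := by
  have hJ : HenselianRing C (J.map g) := H9Hens.henselianRing_of_isNilpotent fun x hx => by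
    have : J.map g ≤ nilradical C := Ideal.map_le_iff_le_comap.2 fun r hr => hnil r hr
    exact this hx
  exact (hB.2.2 C _ g hJ le_rfl hu).exists

theorem isNoetherianRing_away {R : Type u} [CommRing R] [IsNoetherianRing R] {J : Ideal R} {f : R} {B : Type u}
    [CommRing B] {φ : R →+* B} (h : HensSch.IsHensAway R J f B φ) : IsNoetherianRing B := by
  obtain ⟨hu, hH, huniv⟩ := h
  letI := φ.toAlgebra
  let R' := Localization.Away f
  let ψ : R' →+* B := IsLocalization.Away.lift f hu
  have hψ : ψ.comp (algebraMap R R') = φ := IsLocalization.Away.lift_comp f hu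
  letI := ψ.toAlgebra
  have hmap : (J.map (algebraMap R R')).map (algebraMap R' B) = J.map φ := by
    rw [Ideal.map_map]; exact congrArg (J.map ·) hψ
  have hP : Hens2.IsPairHenselization R' (J.map (algebraMap R R')) B := by
    refine ⟨by rw [hmap]; exact hH, fun C _ J' g hJ hle => ?_⟩
    obtain ⟨k, hk, hku⟩ := huniv C J' (g.comp (algebraMap R R')) hJ
      (by rw [← Ideal.map_map]; exact hle) ((IsLocalization.Away.algebraMap_isUnit f).map g)
    refine ⟨k, IsLocalization.ringHom_ext (Submonoid.powers f) ?_, fun k' hk' => hku k' ?_⟩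
    · rw [RingHom.comp_assoc]; exact (congrArg k.comp hψ).trans hk
    · show k'.comp φ = _
      rw [← hψ, ← RingHom.comp_assoc]
      exact congrArg (·.comp (algebraMap R R')) hk'
  haveI : IsNoetherianRing R' := IsLocalization.isNoetherianRing (Submonoid.powers f) R' inferInstance
  exact H9Hens.pairHenselization_isNoetherianRing hP

variable [IsLocalRing O] [IsLocalRing S] [IsLocalHom (algebraMap O S)]

/-- The chart at one neighbourhood. -/
theorem exists_local_chart {R : Type u} [CommRing R] [IsNoetherianRing R] [Algebra R O] (P : Ideal R) [P.IsPrime]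
    [IsLocalization.AtPrime O P] {J : Ideal R} {𝔞 : Ideal O} (hJ : J.map (algebraMap R O) ≤ 𝔞.radical)
    (h𝔞 : 𝔞 ≤ IsLocalRing.maximalIdeal O) (ρ : ∀ n : ℕ, S →+* O ⧸ 𝔞 ^ n)
    (hρ : ∀ n, (ρ n).comp (algebraMap O S) = Ideal.Quotient.mk (𝔞 ^ n))
    {f : R} {B : Type u} [CommRing B] {φ : R →+* B} (hB : HensSch.IsHensAway R J f B φ) (hS : B →+* S)
    (hcomm : hS.comp φ = (algebraMap O S).comp (algebraMap R O)) :
    ∃ (L : Type u) (_ : CommRing L) (_ : IsLocalRing L) (_ : IsNoetherianRing L)
      (τ : O →+* L) (h : L →+* S), h.comp τ = algebraMap O S ∧ 𝔞.map τ ≤ IsLocalRing.maximalIdeal L ∧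
        Set.range hS ⊆ Set.range h ∧
        ∀ (n : ℕ) (β : L) (a : O), Ideal.Quotient.mk (𝔞 ^ n) a = ρ n (h β) → β - τ a ∈ (𝔞 ^ n).map τ := by
  let q := (IsLocalRing.maximalIdeal S).comap hS
  let L := Localization.AtPrime q
  haveI := isNoetherianRing_away hB
  haveI : IsNoetherianRing L := IsLocalization.isNoetherianRing q.primeCompl L inferInstance
  have hunit : ∀ r : P.primeCompl, IsUnit ((algebraMap B L).comp φ r) := fun r => by
    refine IsLocalization.map_units L (⟨φ r, ?_⟩ : q.primeCompl)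
    intro hr
    have h1 : IsUnit (algebraMap R O r) := IsLocalization.map_units O r
    exact hr (show IsUnit (hS (φ r)) from RingHom.congr_fun hcomm r ▸ h1.map (algebraMap O S))
  let τ : O →+* L := IsLocalization.lift hunit
  have hτ : τ.comp (algebraMap R O) = (algebraMap B L).comp φ := IsLocalization.lift_comp hunit
  have hq : ∀ b : q.primeCompl, IsUnit (hS b) := fun b => IsLocalRing.notMem_maximalIdeal.1 b.2
  let h : L →+* S := IsLocalization.lift hq
  have hh : h.comp (algebraMap B L) = hS := IsLocalization.lift_comp hq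
  have hhτ : h.comp τ = algebraMap O S := IsLocalization.ringHom_ext P.primeCompl (by
    rw [RingHom.comp_assoc, hτ, ← RingHom.comp_assoc, hh, hcomm])
  haveI : IsLocalHom h := ⟨fun l hl => by
    obtain ⟨⟨b, s⟩, rfl⟩ := IsLocalization.mk'_surjective q.primeCompl l
    refine (IsLocalization.AtPrime.isUnit_mk'_iff L q b s).2 ?_
    intro hb
    have h2 : IsUnit (h (algebraMap B L b)) := by
      rw [← IsLocalization.mk'_spec L b s, map_mul]
      exact hl.mul (((IsLocalization.map_units L s)).map h)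
    rw [← RingHom.comp_apply, hh] at h2
    exact hb h2⟩
  refine ⟨L, inferInstance, inferInstance, inferInstance, τ, h, hhτ, ?_, ?_, ?_⟩
  · refine Ideal.map_le_iff_le_comap.2 fun a ha => ?_
    rw [Ideal.mem_comap, IsLocalRing.mem_maximalIdeal, mem_nonunits_iff]
    intro hu
    have h2 := hu.map h
    rw [← RingHom.comp_apply, hhτ] at h2
    exact (IsLocalRing.mem_maximalIdeal a).1 (h𝔞 ha) ((isUnit_map_iff (algebraMap O S) a).1 h2)
  · rintro _ ⟨b, rfl⟩
    exact ⟨algebraMap B L b, RingHom.congr_fun hh b⟩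
  · intro n β a ha
    let qn : L →+* L ⧸ (𝔞 ^ n).map τ := Ideal.Quotient.mk _
    let τn : O ⧸ 𝔞 ^ n →+* L ⧸ (𝔞 ^ n).map τ := Ideal.quotientMap _ τ Ideal.le_comap_map
    have key : qn = τn.comp ((ρ n).comp h) := by
      refine IsLocalization.ringHom_ext q.primeCompl (away_hom_ext hB _ _ ?_ fun r hr => ?_)
      · ext r
        have e1 : algebraMap B L (φ r) = τ (algebraMap R O r) := (RingHom.congr_fun hτ r).symm
        simp only [RingHom.comp_apply]
        rw [e1, show h (τ (algebraMap R O r)) = algebraMap O S (algebraMap R O r) from RingHom.congr_fun hhτ _,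
          show ρ n (algebraMap O S (algebraMap R O r)) = Ideal.Quotient.mk _ (algebraMap R O r) from
            RingHom.congr_fun (hρ n) _]
        rfl
      · obtain ⟨k, hk⟩ := hJ (Ideal.mem_map_of_mem _ hr)
        refine ⟨k * n, ?_⟩
        show (qn (algebraMap B L (φ r))) ^ (k * n) = 0
        rw [show algebraMap B L (φ r) = τ (algebraMap R O r) from (RingHom.congr_fun hτ r).symm, ← map_pow, ← map_pow]
        refine Ideal.Quotient.eq_zero_iff_mem.2 (Ideal.mem_map_of_mem τ ?_)
        rw [pow_mul]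
        exact Ideal.pow_mem_pow hk n
    have h1 : qn β = τn (Ideal.Quotient.mk _ a) := by
      rw [ha]; exact RingHom.congr_fun key β
    exact Ideal.Quotient.eq.1 h1

variable {𝔞 : Ideal O}

/-- Every element is congruent to one of the base. -/
theorem HasCharts.exists_congr (H : HasCharts (S := S) 𝔞) (n : ℕ) (s : S) :
    ∃ a : O, s - algebraMap O S a ∈ (𝔞 ^ n).map (algebraMap O S) := by
  obtain ⟨ρ, -, hF⟩ := H
  obtain ⟨L, _, _, _, τ, h, hτ, -, hs, hc⟩ := hF {s}
  obtain ⟨β, rfl⟩ := hs (Finset.mem_coe.2 (Finset.mem_singleton_self s))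
  obtain ⟨a, ha⟩ := Ideal.Quotient.mk_surjective (ρ n (h β))
  refine ⟨a, ?_⟩
  have := Ideal.mem_map_of_mem h (hc n β a ha)
  rwa [Ideal.map_map, hτ, map_sub, ← RingHom.comp_apply, hτ] at this

/-- A module element vanishing in every quotient vanishes over the Henselized ring. -/
theorem tensor_eq_zero {M : Type u} [AddCommGroup M] [Module O M] [Module.Finite O M]
    (ρ : ∀ n : ℕ, S →+* O ⧸ 𝔞 ^ n)
    (hF : ∀ F : Finset S, ∃ (L : Type u) (_ : CommRing L) (_ : IsLocalRing L) (_ : IsNoetherianRing L)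
      (τ : O →+* L) (h : L →+* S), h.comp τ = algebraMap O S ∧ 𝔞.map τ ≤ IsLocalRing.maximalIdeal L ∧
        (↑F : Set S) ⊆ Set.range h ∧
        ∀ (n : ℕ) (β : L) (a : O), Ideal.Quotient.mk (𝔞 ^ n) a = ρ n (h β) → β - τ a ∈ (𝔞 ^ n).map τ)
    {l : ℕ} (b : Fin l → S) (m : Fin l → M)
    (h0 : ∀ (n : ℕ) (a : Fin l → O), (∀ i, Ideal.Quotient.mk (𝔞 ^ n) (a i) = ρ n (b i)) →
      ∑ i, a i • m i ∈ (𝔞 ^ n) • (⊤ : Submodule O M)) :
    ∑ i, b i ⊗ₜ[O] m i = 0 := by
  classical
  obtain ⟨L, _, _, _, τ, h, hτ, hm, hb, hc⟩ := hF (Finset.univ.image b)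
  choose β hβ using fun i => hb (Finset.mem_coe.2 (Finset.mem_image_of_mem b (Finset.mem_univ i)))
  letI := τ.toAlgebra
  let z : L ⊗[O] M := ∑ i, β i ⊗ₜ[O] m i
  have hz : z = 0 := by
    have hmem : ∀ n : ℕ, z ∈ ((𝔞.map τ) ^ n) • (⊤ : Submodule L (L ⊗[O] M)) := fun n => by
      choose a ha using fun i => Ideal.Quotient.mk_surjective (ρ n (b i))
      have hz' : z = ∑ i, (β i - τ (a i)) ⊗ₜ[O] m i + (1 : L) ⊗ₜ[O] ∑ i, a i • m i := by
        rw [tmul_sum, ← Finset.sum_add_distrib]
        refine Finset.sum_congr rfl fun i _ => ?_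
        rw [tmul_smul, smul_tmul', Algebra.smul_def, mul_one, ← add_tmul]
        exact congrArg (· ⊗ₜ m i) (sub_add_cancel _ _).symm
      rw [hz', ← Ideal.map_pow]
      refine add_mem (Submodule.sum_mem _ fun i _ => ?_) ?_
      · have := Submodule.smul_mem_smul (hc n (β i) (a i) (by rw [ha i, hβ i]))
          (Submodule.mem_top : (1 : L) ⊗ₜ[O] m i ∈ ⊤)
        rwa [smul_tmul', smul_eq_mul, mul_one] at this
      · refine Submodule.smul_induction_on (h0 n a ha) (fun r hr x _ => ?_) fun x y hx hy => ?_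
        · rw [tmul_smul, ← algebraMap_smul L r]
          exact Submodule.smul_mem_smul (Ideal.mem_map_of_mem τ hr) Submodule.mem_top
        · rw [tmul_add]; exact add_mem hx hy
    have hK := Ideal.iInf_pow_smul_eq_bot_of_isLocalRing (M := L ⊗[O] M) (𝔞.map τ)
      (ne_top_of_le_ne_top (IsLocalRing.maximalIdeal.isMaximal L).ne_top hm)
    have hz0 : z ∈ (⊥ : Submodule L (L ⊗[O] M)) := hK ▸ Submodule.mem_iInf _ |>.2 hmem
    exact (Submodule.mem_bot L).1 hz0
  let hA : L →ₐ[O] S := { h with commutes' := fun o => RingHom.congr_fun hτ o }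
  have h2 := congrArg (TensorProduct.map hA.toLinearMap (LinearMap.id (R := O) (M := M))) hz
  rw [map_zero, map_sum] at h2
  refine Eq.trans (Finset.sum_congr rfl fun i _ => ?_) h2
  rw [TensorProduct.map_tmul, LinearMap.id_apply]
  exact congrArg (· ⊗ₜ m i) (hβ i).symm

end Groth.Agent.LeadHens
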