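import Groth.Agent.LeadHens.Mod
import Groth.Agent.S0004

/-!
# Inverse image to the Henselization is fully faithful on coherent modules over a complete base
-/

set_option autoImplicit false
set_option linter.style.haveILetI false
set_option linter.unusedSectionVars false
set_option backward.isDefEq.respectTransparency false

noncomputable section

universe u

open CategoryTheory Opposite TopologicalSpace Topology AlgebraicGeometry CategoryTheory.Limits

namespace Groth.Agent.LeadHens

variable {A : Type u} [CommRing A] [IsNoetherianRing A] {I : Ideal A} [IsAdicComplete I A] {X : Scheme.{u}}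
  [X.Over (Spec (CommRingCat.of A))] [IsProper (X ↘ Spec (CommRingCat.of A))]
  {Xh : LocallyRingedSpace.{u}} (ι : Xh ⟶ X.toLocallyRingedSpace)
  (hh : HensSch.IsHenselizationAlong X ((X ↘ Spec (CommRingCat.of A)).base ⁻¹' PrimeSpectrum.zeroLocus (I : Set A)) Xh ι)

/-- A compatible family of maps gives a map of completions. -/
theorem exists_completion_hom {F G : X.Modules} (v : ∀ n, F ⟶ Formal.modPow I (n + 1) G)
    (hv : ∀ n, v (n + 1) ≫ Formal.modPowTrans I (n + 1) G = v n) :
    ∃ c : Formal.completion I F ⟶ Formal.completion I G,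
      ∀ n, Formal.modPowπ I (n + 1) F ≫ c.app (op n) = v n := by
  let w : ∀ n, Formal.modPow I (n + 1) F ⟶ Formal.modPow I (n + 1) G := fun n =>
    cokernel.desc _ (v n) (H24Formal.smulFamily_comp_eq_zero _ (H24Formal.killedBy_modPow I (n + 1) G))
  have hw : ∀ n, Formal.modPowπ I (n + 1) F ≫ w n = v n := fun n => cokernel.π_desc _ _ _
  refine ⟨NatTrans.ofOpSequence w (fun n => ?_), hw⟩
  rw [H24Formal.completion_map_succ, H24Formal.completion_map_succ]
  have key : Formal.modPowTrans I (n + 1) F ≫ w n = w (n + 1) ≫ Formal.modPowTrans I (n + 1) G := by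
    refine coequalizer.hom_ext ?_
    show Formal.modPowπ I (n + 1 + 1) F ≫ Formal.modPowTrans I (n + 1) F ≫ w n =
      Formal.modPowπ I (n + 1 + 1) F ≫ w (n + 1) ≫ Formal.modPowTrans I (n + 1) G
    exact ((Category.assoc _ _ _).symm.trans ((congrArg (· ≫ w n) (Formal.modPowπ_trans I (n + 1) F)).trans
      (hw n))).trans (((Category.assoc _ _ _).symm.trans
        ((congrArg (· ≫ Formal.modPowTrans I (n + 1) G) (hw (n + 1))).trans (hv n))).symm)
  exact key

include hh in
theorem bijective_map (F G : X.Modules) (hF : Coh.IsCoh F) (hG : Coh.IsCoh G) :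
    Function.Bijective ((HensSch.pullMod ι).map :
      (F ⟶ G) → ((HensSch.pullMod ι).obj F ⟶ (HensSch.pullMod ι).obj G)) := by
  haveI : IsLocallyNoetherian X := LocallyOfFiniteType.isLocallyNoetherian (X ↘ Spec (CommRingCat.of A))
  obtain ⟨hff, -⟩ := Groth.Agent.S0004.result A I X
  let adj := HensSch.pullPushAdj ι
  have hk : ∀ n, Formal.KilledBy (I ^ n) (Formal.modPow I n G) := fun n => H24Formal.killedBy_modPow I n G
  haveI : ∀ n, IsIso (η ι (Formal.modPow I n G)) := fun n => isIso_η ι hh (hk n)
  refine ⟨fun φ φ' e => ?_, fun ψ => ?_⟩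
  · have hq : ∀ n, φ ≫ Formal.modPowπ I n G = φ' ≫ Formal.modPowπ I n G := fun n => by
      rw [← cancel_mono (η ι (Formal.modPow I n G))]
      show (φ ≫ Formal.modPowπ I n G) ≫ adj.unit.app _ = (φ' ≫ Formal.modPowπ I n G) ≫ adj.unit.app _
      refine (adj.unit.naturality (φ ≫ Formal.modPowπ I n G)).trans
        ((congrArg (adj.unit.app F ≫ ·) ?_).trans (adj.unit.naturality (φ' ≫ Formal.modPowπ I n G)).symm)
      show (HensSch.pushMod ι).map ((HensSch.pullMod ι).map _) = (HensSch.pushMod ι).map ((HensSch.pullMod ι).map _)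
      rw [Functor.map_comp (HensSch.pullMod ι), Functor.map_comp (HensSch.pullMod ι), e]
    obtain ⟨c, hc⟩ := exists_completion_hom (F := F) (G := G) (fun n => φ ≫ Formal.modPowπ I (n + 1) G) (fun n => by
      rw [Category.assoc, Formal.modPowπ_trans])
    exact (hff F G hF hG c).unique (fun n => hc n)
      (fun n => (hc n).trans (hq (n + 1)))
  · let u : ∀ n, F ⟶ Formal.modPow I n G := fun n =>
      adj.homEquiv F _ (ψ ≫ (HensSch.pullMod ι).map (Formal.modPowπ I n G)) ≫ inv (η ι (Formal.modPow I n G))
    have hu : ∀ n, u (n + 1) ≫ Formal.modPowTrans I n G = u n := fun n => by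
      rw [← cancel_mono (η ι (Formal.modPow I n G))]
      simp only [u, Category.assoc, IsIso.inv_hom_id, Category.comp_id]
      have e1 : Formal.modPowTrans I n G ≫ η ι (Formal.modPow I n G) =
          η ι (Formal.modPow I (n + 1) G) ≫ (HensSch.pushMod ι).map ((HensSch.pullMod ι).map (Formal.modPowTrans I n G)) :=
        adj.unit.naturality _
      rw [e1, IsIso.inv_hom_id_assoc, ← Adjunction.homEquiv_naturality_right, Category.assoc,
        ← Functor.map_comp (HensSch.pullMod ι), Formal.modPowπ_trans]
    obtain ⟨c, hc⟩ := exists_completion_hom (F := F) (G := G) (fun n => u (n + 1)) (fun n => hu (n + 1))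
    obtain ⟨φ, hφ, -⟩ := hff F G hF hG c
    refine ⟨φ, ?_⟩
    have hsucc : ∀ n, (HensSch.pullMod ι).map φ ≫ (HensSch.pullMod ι).map (Formal.modPowπ I (n + 1) G) =
        ψ ≫ (HensSch.pullMod ι).map (Formal.modPowπ I (n + 1) G) := fun n => by
      refine (adj.homEquiv _ _).injective ?_
      rw [← Functor.map_comp (HensSch.pullMod ι)]
      have h1 : φ ≫ Formal.modPowπ I (n + 1) G = u (n + 1) := (hφ n).symm.trans (hc n)
      rw [h1, Adjunction.homEquiv_unit]
      refine (adj.unit.naturality (u (n + 1))).symm.trans ?_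
      show u (n + 1) ≫ η ι _ = _
      simp only [u, Category.assoc, IsIso.inv_hom_id, Category.comp_id]
    have hall : ∀ n, ((HensSch.pullMod ι).map φ - ψ) ≫ (HensSch.pullMod ι).map (Formal.modPowπ I n G) = 0 := fun n => by
      rw [← Formal.modPowπ_trans I n G, Functor.map_comp (HensSch.pullMod ι), ← Category.assoc,
        Preadditive.sub_comp, hsucc n, sub_self, zero_comp]
    exact sub_eq_zero.1 (eq_zero_of_forall_modPow ι hh hG _ hall)

end Groth.Agent.LeadHens
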