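import Groth.Agent.H26Hens.Faithful
import Mathlib.Algebra.Category.ModuleCat.Stalk

/-!
# Stalks of inverse images along a morphism of locally ringed spaces
-/

set_option autoImplicit false
set_option linter.style.haveILetI false
set_option linter.unusedSectionVars false
set_option backward.isDefEq.respectTransparency false

noncomputable section

universe u

open CategoryTheory Opposite TopologicalSpace Topology AlgebraicGeometry CategoryTheory.Limits TensorProduct

namespace Groth.Agent.LeadHens

open Groth.Agent.H26Hens.Faithful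

variable {Z : LocallyRingedSpace.{u}}

/-- The presheaf of modules underlying a module. -/
abbrev pmod (Q : ModSite.Mod Z.sheaf) : PresheafOfModules.{u} (Z.presheaf ⋙ forget₂ CommRingCat RingCat) :=
  Q.val

/-- The underlying presheaf of abelian groups. -/
abbrev pab (Q : ModSite.Mod Z.sheaf) : TopCat.Presheaf Ab.{u} Z.toTopCat := (pmod Q).presheaf

/-- Sections. -/
abbrev Sec (Q : ModSite.Mod Z.sheaf) (W : Opens Z) : Type u := (pmod Q).presheaf.obj (op W)

/-- The stalk. -/
abbrev St (Q : ModSite.Mod Z.sheaf) (z : Z) : Type u := ↑(TopCat.Presheaf.stalk (pab Q) z)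

/-- The germ. -/
abbrev stg (Q : ModSite.Mod Z.sheaf) (W : Opens Z) (z : Z) (hz : z ∈ W) : Sec Q W →+ St Q z :=
  (TopCat.Presheaf.germ (pab Q) W z hz).hom

theorem exists_stg_pair (Q : ModSite.Mod Z.sheaf) (z : Z) (r : Z.presheaf.stalk z) (a : St Q z) :
    ∃ (W : Opens Z) (hz : z ∈ W) (r' : Z.presheaf.obj (op W)) (a' : Sec Q W),
      Z.presheaf.germ W z hz r' = r ∧ stg Q W z hz a' = a := by
  obtain ⟨U, hU, r', rfl⟩ := Z.presheaf.exists_germ_eq r
  obtain ⟨V, hV, a', rfl⟩ := TopCat.Presheaf.exists_germ_eq (pab Q) a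
  exact ⟨U ⊓ V, ⟨hU, hV⟩, Z.presheaf.map (homOfLE inf_le_left).op r',
    (pmod Q).presheaf.map (homOfLE inf_le_right).op a',
    TopCat.Presheaf.germ_res_apply _ _ _ _ _, TopCat.Presheaf.germ_res_apply _ _ _ _ _⟩

variable {z : Z} {N : Type u} [AddCommGroup N] [Module (Z.presheaf.stalk z) N]

/-- The value at the point of a map into a skyscraper. -/
def skyVal {Q : ModSite.Mod Z.sheaf} (ψ : Q ⟶ sky z N) : St Q z →ₗ[Z.presheaf.stalk z] N :=
  let c : Cocone ((OpenNhds.inclusion z).op ⋙ (pmod Q).presheaf) :=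
    { pt := AddCommGrpCat.of N
      ι :=
        { app := fun W => AddCommGrpCat.ofHom
            { toFun := fun a =>
                ((ψ.val.app (op W.unop.1)).hom a : ULift.{u} (PLift (z ∈ W.unop.1)) → N) ⟨⟨W.unop.2⟩⟩
              map_zero' := congrFun (map_zero (ψ.val.app (op W.unop.1)).hom) _
              map_add' := fun a b => congrFun (map_add (ψ.val.app (op W.unop.1)).hom a b) _ }
          naturality := fun W W' i => by
            ext a
            exact congrFun (PresheafOfModules.naturality_apply ψ.val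
              (homOfLE (show W'.unop.1 ≤ W.unop.1 from i.unop.le)).op a) ⟨⟨W'.unop.2⟩⟩ } }
  { toFun := (colimit.desc _ c).hom
    map_add' := map_add _
    map_smul' := fun r a => by
      obtain ⟨W, hz, r', a', rfl, rfl⟩ := exists_stg_pair Q z r a
      have e : ∀ b : Sec Q W, (colimit.desc _ c).hom (stg Q W z hz b) =
          ((ψ.val.app (op W)).hom b : ULift.{u} (PLift (z ∈ W)) → N) ⟨⟨hz⟩⟩ := fun b =>
        ConcreteCategory.congr_hom (colimit.ι_desc c (op (⟨W, hz⟩ : OpenNhds z))) b
      rw [RingHom.id_apply, ← PresheafOfModules.germ_smul, e, e]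
      exact congrFun ((ψ.val.app (op W)).hom.map_smul r' a') _ }

theorem skyVal_stg {Q : ModSite.Mod Z.sheaf} (ψ : Q ⟶ sky z N) (W : Opens Z) (hz : z ∈ W) (a : Sec Q W) :
    skyVal ψ (stg Q W z hz a) = ((ψ.val.app (op W)).hom a : ULift.{u} (PLift (z ∈ W)) → N) ⟨⟨hz⟩⟩ := by
  dsimp only [skyVal]
  exact ConcreteCategory.congr_hom (colimit.ι_desc (F := (OpenNhds.inclusion z).op ⋙ pab Q) _
    (op (⟨W, hz⟩ : OpenNhds z))) a

/-- The map into the skyscraper of a linear map on the stalk. -/
def skyHom {Q : ModSite.Mod Z.sheaf} (φ : St Q z →ₗ[Z.presheaf.stalk z] N) : Q ⟶ sky z N where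
  val := PresheafOfModules.homMk
    { app := fun W => AddCommGrpCat.ofHom
        { toFun := fun a (h : ULift.{u} (PLift (z ∈ W.unop))) => φ (stg Q W.unop z h.down.down a)
          map_zero' := funext fun h => (congrArg φ (map_zero _)).trans (map_zero _)
          map_add' := fun a b => funext fun h => (congrArg φ (map_add _ _ _)).trans (map_add _ _ _) }
      naturality := fun W W' i => by
        ext a
        funext h
        exact congrArg φ (TopCat.Presheaf.germ_res_apply' (pab Q) i z h.down.down a) }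
    fun W r a => funext fun h => (congrArg φ (PresheafOfModules.germ_smul (pmod Q) z W.unop h.down.down r a)).trans
      (φ.map_smul _ _)

variable {X : Scheme.{u}} (ι : Z ⟶ X.toLocallyRingedSpace)

/-- The unit. -/
abbrev η (G : X.Modules) : G ⟶ (HensSch.pushMod ι).obj ((HensSch.pullMod ι).obj G) :=
  (HensSch.pullPushAdj ι).unit.app G

/-- The pulled back section. -/
def pullSec (G : X.Modules) (U : X.Opens) : Γ(G, U) →+ Sec ((HensSch.pullMod ι).obj G) ((Opens.map ι.base).obj U) :=
  ((η ι G).app U).hom

theorem pullSec_smul (G : X.Modules) (U : X.Opens) (r : Γ(X, U)) (g : Γ(G, U)) :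
    pullSec ι G U (r • g) = (show (pmod ((HensSch.pullMod ι).obj G)).obj (op ((Opens.map ι.base).obj U)) from
      (ι.c.app (op U)).hom r • (show (pmod ((HensSch.pullMod ι).obj G)).obj (op ((Opens.map ι.base).obj U)) from
        pullSec ι G U g)) :=
  ((η ι G).val.app (op U)).hom.map_smul r g

/-- The map of stalks. -/
def stMap (G : X.Modules) (z : Z) : G.presheaf.stalk (ι.base z) →+ St ((HensSch.pullMod ι).obj G) z :=
  ((TopCat.Presheaf.stalkFunctor Ab.{u} (ι.base z)).map
      (show G.presheaf ⟶ (TopCat.Presheaf.pushforward Ab.{u} ι.base).obj (pmod ((HensSch.pullMod ι).obj G)).presheaf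
        from (η ι G).mapPresheaf) ≫
    TopCat.Presheaf.stalkPushforward Ab.{u} ι.base (pmod ((HensSch.pullMod ι).obj G)).presheaf z).hom

theorem stMap_germ (G : X.Modules) (U : X.Opens) (z : Z) (hz : ι.base z ∈ U) (g : Γ(G, U)) :
    stMap ι G z (G.presheaf.germ U (ι.base z) hz g) = stg _ ((Opens.map ι.base).obj U) z hz (pullSec ι G U g) := by
  show TopCat.Presheaf.stalkPushforward Ab.{u} ι.base _ z
    ((TopCat.Presheaf.stalkFunctor Ab.{u} (ι.base z)).map _ (G.presheaf.germ U (ι.base z) hz g)) = _
  erw [TopCat.Presheaf.stalkFunctor_map_germ_apply]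
  erw [TopCat.Presheaf.stalkPushforward_germ_apply]
  rfl

theorem stMap_smul (G : X.Modules) (z : Z) (r : X.presheaf.stalk (ι.base z)) (g : G.presheaf.stalk (ι.base z)) :
    stMap ι G z (r • g) = (ι.stalkMap z).hom r • stMap ι G z g := by
  obtain ⟨U, hU, r', g', rfl, rfl⟩ := H06Mod.exists_germ_pair G (ι.base z) r g
  rw [← H06Mod.germ_smul, stMap_germ, stMap_germ, pullSec_smul]
  refine (PresheafOfModules.germ_smul (pmod ((HensSch.pullMod ι).obj G)) z ((Opens.map ι.base).obj U) hU
    ((ι.c.app (op U)).hom r') (pullSec ι G U g')).trans ?_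
  exact congrArg (· • _) (LocallyRingedSpace.stalkMap_germ_apply ι U z hU r').symm

theorem skyVal_homEquiv {G : X.Modules} (ψ : (HensSch.pullMod ι).obj G ⟶ sky z N) (U : X.Opens)
    (hz : ι.base z ∈ U) (g : Γ(G, U)) :
    skyVal ψ (stMap ι G z (G.presheaf.germ U (ι.base z) hz g)) =
      ((((HensSch.pullPushAdj ι).homEquiv G (sky z N) ψ).val.app (op U)).hom g : ULift.{u} (PLift (z ∈ (Opens.map ι.base).obj U)) → N)
        ⟨⟨hz⟩⟩ := by
  rw [stMap_germ, skyVal_stg, Adjunction.homEquiv_unit]
  rfl

/-- The stalk of an inverse image is spanned by the stalk of the module. -/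
theorem span_stMap (G : X.Modules) (z : Z) :
    Submodule.span (Z.presheaf.stalk z) (Set.range (stMap ι G z)) = ⊤ := by
  let M := Submodule.span (Z.presheaf.stalk z) (Set.range (stMap ι G z))
  let ψ : (HensSch.pullMod ι).obj G ⟶ sky z (St ((HensSch.pullMod ι).obj G) z ⧸ M) := skyHom M.mkQ
  have h0 : (HensSch.pullPushAdj ι).homEquiv _ _ ψ = 0 := by
    refine Scheme.Modules.hom_ext _ _ fun U => ConcreteCategory.hom_ext _ _ fun g => ?_
    funext h
    refine ((skyVal_homEquiv ι ψ U h.down.down g).symm.trans ?_)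
    rw [stMap_germ, skyVal_stg]
    exact (Submodule.Quotient.mk_eq_zero M).2 (stMap_germ ι G U z h.down.down g ▸ Submodule.subset_span ⟨_, rfl⟩)
  have hψ : ψ = 0 := by
    refine ((HensSch.pullPushAdj ι).homEquiv _ _).injective (h0.trans ?_)
    rw [Adjunction.homEquiv_unit, Functor.map_zero, comp_zero]
  refine eq_top_iff.2 fun a _ => ?_
  obtain ⟨W, hz, a', rfl⟩ := TopCat.Presheaf.exists_germ_eq (pab ((HensSch.pullMod ι).obj G)) a
  refine (Submodule.Quotient.mk_eq_zero M).1 ?_
  exact congrFun (congrArg (fun q => (q.val.app (op W)).hom a') hψ) (⟨⟨hz⟩⟩ : ULift.{u} (PLift _))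

/-- A map of modules into the skyscraper, from a semilinear map on the stalk. -/
theorem exists_skyHom {G : X.Modules} (l : G.presheaf.stalk (ι.base z) →+ N)
    (hl : ∀ r g, l (r • g) = (ι.stalkMap z).hom r • l g) :
    ∃ ψ : G ⟶ (HensSch.pushMod ι).obj (sky z N), ∀ (U : X.Opens) (hz : ι.base z ∈ U) (g : Γ(G, U)),
      ((ψ.app U).hom g : ULift.{u} (PLift (z ∈ (Opens.map ι.base).obj U)) → N) ⟨⟨hz⟩⟩ =
        l (G.presheaf.germ U (ι.base z) hz g) := by
  refine ⟨(⟨PresheafOfModules.homMk
      { app := fun U => AddCommGrpCat.ofHom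
          { toFun := fun m (h : ULift.{u} (PLift (z ∈ (Opens.map ι.base).obj U.unop))) =>
              l (G.presheaf.germ U.unop (ι.base z) h.down.down m)
            map_zero' := funext fun h => (congrArg l (map_zero (G.presheaf.germ U.unop (ι.base z) h.down.down).hom)).trans (map_zero _)
            map_add' := fun a b => funext fun h =>
              (congrArg l (map_add (G.presheaf.germ U.unop (ι.base z) h.down.down).hom
                (show Γ(G, U.unop) from a) b)).trans (map_add _ _ _) }
        naturality := fun U V i => by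
          ext a
          funext h
          exact congrArg l (G.presheaf.germ_res_apply' i (ι.base z) h.down.down a) }
      fun U r a => funext fun h => by
        show l (G.presheaf.germ U.unop (ι.base z) h.down.down
          ((show Γ(X, U.unop) from r) • (show Γ(G, U.unop) from a))) = _
        rw [H06Mod.germ_smul, hl]
        exact congrArg (· • _) (LocallyRingedSpace.stalkMap_germ_apply ι U.unop z h.down.down r)⟩ : G ⟶ (HensSch.pushMod ι).obj (sky z N)),
    fun U hz g => rfl⟩

end Groth.Agent.LeadHens
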