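import Groth.Agent.LeadHens.Point
import Groth.Agent.LeadHens.Sheaf
import Groth.Agent.H24Formal.Completion
import Groth.Agent.H06Mod.StalkFinite
import Groth.Agent.H10Coh.ModRes
import Groth.Agent.H10Coh.PushAb

/-!
# Inverse image to the Henselization against the quotients by powers of the ideal
-/

set_option autoImplicit false
set_option linter.style.haveILetI false
set_option linter.unusedSectionVars false
set_option backward.isDefEq.respectTransparency false

noncomputable section

universe u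

open CategoryTheory Opposite TopologicalSpace Topology AlgebraicGeometry CategoryTheory.Limits TensorProduct

namespace Groth.Agent.LeadHens

attribute [local instance 10000] Groth.Agent.H10Coh.hasSheafifyAb Groth.Agent.H10Coh.hasWeakSheafifyAb

open Groth.Agent.H26Hens.Faithful

variable {A : Type u} [CommRing A] {I : Ideal A} {X : Scheme.{u}} [X.Over (Spec (CommRingCat.of A))]
  {Xh : LocallyRingedSpace.{u}} (ι : Xh ⟶ X.toLocallyRingedSpace)

local notation "𝔭" => (X ↘ Spec (CommRingCat.of A))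

/-- The base to a stalk. -/
def toSt (x : X) : A →+* X.presheaf.stalk x :=
  (X.presheaf.germ ⊤ x trivial).hom.comp (Coh.toGlobal 𝔭)

theorem mem_preimage_zeroLocus_iff (x : X) :
    x ∈ (X ↘ Spec (CommRingCat.of A)).base ⁻¹' PrimeSpectrum.zeroLocus (I : Set A) ↔
      ∀ a ∈ I, ¬ IsUnit (toSt x a) := by
  have key : ∀ a : A, IsUnit (toSt x a) ↔ a ∉ ((X ↘ Spec (CommRingCat.of A)).base x).asIdeal := fun a => by
    refine (X.mem_basicOpen (Coh.toGlobal 𝔭 a) x trivial).symm.trans ?_
    show x ∈ X.basicOpen (Scheme.Hom.appTop 𝔭 ((Scheme.ΓSpecIso (CommRingCat.of A)).inv a)) ↔ _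
    rw [← Scheme.preimage_basicOpen_top, basicOpen_eq_of_affine]
    simp only [Iso.inv_hom_id_apply]
    rfl
  constructor
  · intro h a ha hu
    exact (key a).1 hu (h ha)
  · intro h a ha
    by_contra hne
    exact h a ha ((key a).2 hne)

theorem germ_smulMod (M : X.Modules) (a : A) (U : X.Opens) (x : X) (hx : x ∈ U) (m : Γ(M, U)) :
    M.presheaf.germ U x hx ((Formal.smulMod A M a).app U m) = toSt x a • M.presheaf.germ U x hx m := by
  show M.presheaf.germ U x hx ((show Γ(X, U) from Coh.resTop X (op U) (Coh.toGlobal 𝔭 a)) • m) = _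
  rw [H06Mod.germ_smul]
  exact congrArg (· • _) (TopCat.Presheaf.germ_res_apply X.presheaf (homOfLE le_top) x hx _)

variable [IsLocallyNoetherian X]
  (hh : HensSch.IsHenselizationAlong X ((X ↘ Spec (CommRingCat.of A)).base ⁻¹' PrimeSpectrum.zeroLocus (I : Set A)) Xh ι)

include hh in
theorem exists_charts (y : Xh) :
    letI := (ι.stalkMap y).hom.toAlgebra
    HasCharts (S := Xh.presheaf.stalk y) (I.map (toSt (A := A) (ι.base y))) := by
  have hy : ι.base y ∈ (X ↘ Spec (CommRingCat.of A)).base ⁻¹' PrimeSpectrum.zeroLocus (I : Set A) :=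
    hh.2.2.1 ▸ ⟨y, rfl⟩
  refine hasCharts hh y _ (Ideal.map_le_iff_le_comap.2 fun a ha =>
    (IsLocalRing.mem_maximalIdeal _).2 ((mem_preimage_zeroLocus_iff (ι.base y)).1 hy a ha)) ?_
  intro U hU hyU r hr
  let e : A →+* Γ(X, U) := (X.presheaf.map (homOfLE (le_top : U ≤ ⊤)).op).hom.comp (Coh.toGlobal 𝔭)
  have hrad : r ∈ (I.map e).radical := by
    rw [Ideal.radical_eq_sInf, Submodule.mem_sInf]
    rintro q ⟨hIq, hq⟩
    let z : X := hU.fromSpec ⟨q, hq⟩
    have hz : z ∈ U := hU.range_fromSpec.le ⟨_, rfl⟩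
    have hmem : ∀ t : Γ(X, U), IsUnit (X.presheaf.germ U z hz t) ↔ t ∉ q := fun t => by
      rw [← X.mem_basicOpen t z hz]
      show (⟨q, hq⟩ : PrimeSpectrum Γ(X, U)) ∈ hU.fromSpec ⁻¹ᵁ X.basicOpen t ↔ _
      rw [hU.fromSpec_preimage_basicOpen]
      rfl
    by_contra hne
    refine hr z ((mem_preimage_zeroLocus_iff z).2 fun a ha hu => ?_) hz ((hmem r).2 hne)
    refine (hmem (e a)).1 ?_ (hIq (Ideal.mem_map_of_mem e ha))
    rw [show X.presheaf.germ U z hz (e a) = toSt z a from TopCat.Presheaf.germ_res_apply X.presheaf _ z hz _]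
    exact hu
  obtain ⟨k, hk⟩ := hrad
  refine ⟨k, ?_⟩
  have h2 := Ideal.mem_map_of_mem (X.presheaf.germ U _ hyU).hom hk
  rw [Ideal.map_map, map_pow] at h2
  have he : ((X.presheaf.germ U _ hyU).hom.comp e) = toSt (A := A) (ι.base y) := RingHom.ext fun a =>
    TopCat.Presheaf.germ_res_apply X.presheaf (homOfLE le_top) _ hyU _
  rwa [he] at h2

include hh in
/-- A map into an inverse image vanishing modulo every power of the ideal is zero. -/
theorem eq_zero_of_forall_modPow {G : X.Modules} (hG : Coh.IsCoh G) {Q : ModSite.Mod Xh.sheaf}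
    (D : Q ⟶ (HensSch.pullMod ι).obj G)
    (hD : ∀ n : ℕ, D ≫ (HensSch.pullMod ι).map (Formal.modPowπ I n G) = 0) : D = 0 := by
  refine (SheafOfModules.toSheaf _).map_injective (Sheaf.hom_ext (NatTrans.ext (funext fun W => ?_)))
  ext d₀
  let T := (HensSch.pullMod ι).obj G
  let d : Sec T W.unop := (D.val.app W).hom d₀
  show d = 0
  refine TopCat.Presheaf.section_ext (⟨pab T, T.isSheaf⟩ : TopCat.Sheaf Ab.{u} Xh.toTopCat) W.unop d 0 fun y hy => ?_
  rw [map_zero]
  letI := (ι.stalkMap y).hom.toAlgebra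
  haveI : IsLocalHom (algebraMap (X.presheaf.stalk (ι.base y)) (Xh.presheaf.stalk y)) :=
    inferInstanceAs (IsLocalHom (ι.stalkMap y).hom)
  haveI : Module.Finite (X.presheaf.stalk (ι.base y)) (G.presheaf.stalk (ι.base y)) :=
    H06Mod.finite_stalk G hG.2 (ι.base y)
  let 𝔞 := I.map (toSt (A := A) (ι.base y))
  obtain ⟨ρ, hρ, hF⟩ := exists_charts ι hh y
  obtain ⟨l, b, g, hz⟩ := (Submodule.mem_span_set' (R := Xh.presheaf.stalk y)).1
    ((span_stMap ι G y).ge (Submodule.mem_top : stg T W.unop y hy d ∈ ⊤))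
  choose m hm using fun i => (g i).2
  have hzero : ∑ i, b i ⊗ₜ[X.presheaf.stalk (ι.base y)] m i = 0 := by
    refine tensor_eq_zero ρ hF b m fun n a ha => ?_
    let N := G.presheaf.stalk (ι.base y) ⧸ (𝔞 ^ n • (⊤ : Submodule (X.presheaf.stalk (ι.base y)) (G.presheaf.stalk (ι.base y))))
    letI : Module (Xh.presheaf.stalk y) N := Module.compHom N (ρ n)
    let q : G.presheaf.stalk (ι.base y) →+ N := (Submodule.mkQ _).toAddMonoidHom
    have hq : ∀ r x, q (r • x) = (ι.stalkMap y).hom r • q x := fun r x => by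
      show Submodule.Quotient.mk (r • x) = ρ n (algebraMap (X.presheaf.stalk (ι.base y)) _ r) • (q x : N)
      rw [show ρ n (algebraMap _ _ r) = Ideal.Quotient.mk _ r from RingHom.congr_fun (hρ n) r]
      rfl
    obtain ⟨ψ, hψ⟩ := exists_skyHom ι (z := y) (N := N) q hq
    have hk : Formal.smulFamily (I ^ n) G ≫ ψ = 0 := by
      refine Sigma.hom_ext _ _ fun r => ?_
      simp only [Formal.smulFamily, Sigma.ι_desc_assoc, comp_zero]
      refine Scheme.Modules.hom_ext _ _ fun U => ConcreteCategory.hom_ext _ _ fun s => ?_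
      funext hyU
      refine (hψ U hyU.down.down _).trans ?_
      refine (congrArg q (germ_smulMod G (r : A) U _ hyU.down.down s)).trans ?_
      refine (Submodule.Quotient.mk_eq_zero _).2 (Submodule.smul_mem_smul ?_ Submodule.mem_top)
      rw [← Ideal.map_pow]
      exact Ideal.mem_map_of_mem _ r.2
    let adj := HensSch.pullPushAdj ι
    let g' : Formal.modPow I n G ⟶ (HensSch.pushMod ι).obj (sky y N) := cokernel.desc _ ψ hk
    have hfac : (adj.homEquiv G (sky y N)).symm ψ =
        (HensSch.pullMod ι).map (Formal.modPowπ I n G) ≫ (adj.homEquiv (Formal.modPow I n G) (sky y N)).symm g' := by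
      rw [← Adjunction.homEquiv_naturality_left_symm]
      exact congrArg _ (cokernel.π_desc _ ψ hk).symm
    let t := (adj.homEquiv G (sky y N)).symm ψ
    have ht0 : skyVal t (stg T W.unop y hy d) = 0 := by
      rw [skyVal_stg]
      have h1 : D ≫ t = 0 := by rw [show t = _ from hfac, ← Category.assoc, hD n, zero_comp]
      exact congrFun (congrArg (fun φ => (φ.val.app W).hom d₀) h1) ⟨⟨hy⟩⟩
    have htm : ∀ x : G.presheaf.stalk (ι.base y), skyVal t (stMap ι G y x) = q x := fun x => by
      obtain ⟨U, hU, s, rfl⟩ := G.presheaf.exists_germ_eq x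
      rw [skyVal_homEquiv ι t U hU s, Equiv.apply_symm_apply]
      exact hψ U hU s
    rw [← hz, map_sum] at ht0
    refine (Submodule.Quotient.mk_eq_zero _).1 (Eq.trans ?_ ht0)
    refine (map_sum (Submodule.mkQ _) _ _).trans (Finset.sum_congr rfl fun i _ => ?_)
    rw [map_smul, map_smul, ← hm i, htm]
    show a i • q (m i) = ρ n (b i) • (q (m i) : N)
    rw [← ha i]
    rfl
  -- back to the stalk of the inverse image
  letI : Module (X.presheaf.stalk (ι.base y)) (St T y) := Module.compHom _ (ι.stalkMap y).hom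
  haveI : IsScalarTower (X.presheaf.stalk (ι.base y)) (Xh.presheaf.stalk y) (St T y) :=
    IsScalarTower.of_algebraMap_smul fun _ _ => rfl
  let gl : G.presheaf.stalk (ι.base y) →ₗ[X.presheaf.stalk (ι.base y)] St T y :=
    { toFun := stMap ι G y
      map_add' := map_add _
      map_smul' := stMap_smul ι G y }
  have h2 := congrArg (gl.liftBaseChange (Xh.presheaf.stalk y)) hzero
  rw [map_zero, map_sum] at h2
  show stg T W.unop y hy d = 0
  rw [← hz, ← h2]
  refine Finset.sum_congr rfl fun i _ => ?_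
  rw [LinearMap.liftBaseChange_tmul]
  exact congrArg (b i • ·) (hm i).symm

include hh in
theorem smul_stalk_eq_zero {H : X.Modules} {n : ℕ} (hH : Formal.KilledBy (I ^ n) H) (x : X)
    {r : X.presheaf.stalk x} (hr : r ∈ (I.map (toSt (A := A) x)) ^ n) (m : H.presheaf.stalk x) : r • m = 0 := by
  rw [← Ideal.map_pow] at hr
  have : (I ^ n).map (toSt (A := A) x) ≤ Module.annihilator (X.presheaf.stalk x) (H.presheaf.stalk x) :=
    Ideal.map_le_iff_le_comap.2 fun a ha => Module.mem_annihilator.2 fun m => by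
      obtain ⟨U, hx, s, rfl⟩ := H.presheaf.exists_germ_eq m
      rw [← germ_smulMod, hH a ha]
      exact map_zero _
  exact Module.mem_annihilator.1 (this hr) m

include hh in
/-- The unit is injective on sections of a module killed by a power of the ideal. -/
theorem injective_η_app {H : X.Modules} {n : ℕ} (hH : Formal.KilledBy (I ^ n) H) (U : X.Opens) :
    Function.Injective (pullSec ι H U) := by
  refine (injective_iff_map_eq_zero _).2 fun s hs => ?_
  refine TopCat.Presheaf.section_ext (⟨H.presheaf, H.isSheaf⟩ : TopCat.Sheaf Ab.{u} X) U s 0 fun x hx => ?_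
  rw [map_zero]
  by_cases hxY : x ∈ (X ↘ Spec (CommRingCat.of A)).base ⁻¹' PrimeSpectrum.zeroLocus (I : Set A)
  · obtain ⟨y, rfl⟩ := hh.2.2.1.ge hxY
    letI := (ι.stalkMap y).hom.toAlgebra
    obtain ⟨ρ, hρ, -⟩ := exists_charts ι hh y
    let K := (I.map (toSt (A := A) (ι.base y))) ^ n
    have htors : Module.IsTorsionBySet (X.presheaf.stalk (ι.base y)) (H.presheaf.stalk (ι.base y)) (K : Set _) :=
      fun m r => smul_stalk_eq_zero ι hh hH _ r.2 m
    letI := htors.module
    letI : Module (Xh.presheaf.stalk y) (H.presheaf.stalk (ι.base y)) :=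
      Module.compHom _ (ρ n)
    obtain ⟨ψ, hψ⟩ := exists_skyHom ι (z := y) (N := H.presheaf.stalk (ι.base y)) (AddMonoidHom.id _)
      fun r m => by
        show r • m = ρ n (algebraMap _ _ r) • m
        rw [show ρ n (algebraMap _ _ r) = Ideal.Quotient.mk _ r from RingHom.congr_fun (hρ n) r]
        exact (Module.IsTorsionBySet.mk_smul htors r m).symm
    let t := ((HensSch.pullPushAdj ι).homEquiv H (sky y _)).symm ψ
    have h1 := skyVal_homEquiv ι t U hx s
    rw [Equiv.apply_symm_apply, stMap_germ, hs, map_zero, map_zero] at h1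
    exact (hψ U hx s).symm.trans h1.symm
  · rw [mem_preimage_zeroLocus_iff] at hxY
    push Not at hxY
    obtain ⟨a, ha, hu⟩ := hxY
    have h1 := smul_stalk_eq_zero ι hh hH x (Ideal.pow_mem_pow (Ideal.mem_map_of_mem _ ha) n)
      (H.presheaf.germ U x hx s)
    exact ((hu.pow n).smul_eq_zero).1 h1

include hh in
/-- Sections of the direct image come locally from the module. -/
theorem locally_surjective_η {H : X.Modules} {n : ℕ} (hH : Formal.KilledBy (I ^ n) H) (U : X.Opens)
    (t : Sec ((HensSch.pullMod ι).obj H) ((Opens.map ι.base).obj U)) (x : X) (hx : x ∈ U) :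
    ∃ (V : X.Opens) (hV : V ≤ U), x ∈ V ∧ ∃ s, pullSec ι H V s =
      (pab ((HensSch.pullMod ι).obj H)).map ((Opens.map ι.base).map (homOfLE hV)).op t := by
  let T := (HensSch.pullMod ι).obj H
  by_cases hxY : x ∈ Set.range ι.base
  · obtain ⟨y, rfl⟩ := hxY
    letI := (ι.stalkMap y).hom.toAlgebra
    haveI : IsLocalHom (algebraMap (X.presheaf.stalk (ι.base y)) (Xh.presheaf.stalk y)) :=
      inferInstanceAs (IsLocalHom (ι.stalkMap y).hom)
    have hC := exists_charts ι hh y
    obtain ⟨l, b, g, hz⟩ := (Submodule.mem_span_set' (R := Xh.presheaf.stalk y)).1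
      ((span_stMap ι H y).ge (Submodule.mem_top : stg T ((Opens.map ι.base).obj U) y hx t ∈ ⊤))
    choose m hm using fun i => (g i).2
    choose a ha using fun i => hC.exists_congr n (b i)
    have hkill : ∀ c ∈ ((I.map (toSt (A := A) (ι.base y))) ^ n).map (algebraMap _ (Xh.presheaf.stalk y)),
        ∀ m, c • stMap ι H y m = 0 := by
      intro c hc m
      induction hc using Submodule.span_induction with
      | mem c hc =>
        obtain ⟨r, hr, rfl⟩ := hc
        show (ι.stalkMap y).hom r • stMap ι H y m = 0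
        rw [← stMap_smul, smul_stalk_eq_zero ι hh hH _ hr, map_zero]
      | zero => exact zero_smul _ _
      | add c c' _ _ h h' => rw [add_smul, h, h', add_zero]
      | smul r c _ h => rw [smul_eq_mul, mul_smul, h, smul_zero]
    have hrep : stg T ((Opens.map ι.base).obj U) y hx t = stMap ι H y (∑ i, a i • m i) := by
      rw [map_sum, ← hz]
      refine Finset.sum_congr rfl fun i _ => ?_
      rw [stMap_smul, ← hm i, ← sub_eq_zero, ← sub_smul]
      exact hkill _ (ha i) (m i)
    obtain ⟨V, hyV, s, hs⟩ := H.presheaf.exists_germ_eq (∑ i, a i • m i)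
    rw [← hs, stMap_germ] at hrep
    obtain ⟨W, hyW, i₁, i₂, hW⟩ := TopCat.Presheaf.germ_eq (pab T) y hx hyV t (pullSec ι H V s) hrep
    obtain ⟨W', hW', e⟩ := hh.2.1.isInducing.isOpen_iff.1 W.isOpen
    have hW'' : (Opens.map ι.base).obj (⟨W', hW'⟩ ⊓ U ⊓ V) ≤ W := fun w hw => e.le hw.1.1
    refine ⟨⟨W', hW'⟩ ⊓ U ⊓ V, inf_le_left.trans inf_le_right, ⟨⟨e.ge hyW, hx⟩, hyV⟩,
      H.presheaf.map (homOfLE inf_le_right).op s, ?_⟩
    refine (congr($((η ι H).mapPresheaf.naturality (homOfLE (inf_le_right : (⟨W', hW'⟩ ⊓ U ⊓ V : X.Opens) ≤ V)).op) s)).trans ?_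
    have h3 := congrArg ((pab T).map (homOfLE hW'').op) hW
    rw [← ConcreteCategory.comp_apply, ← ConcreteCategory.comp_apply, ← Functor.map_comp, ← Functor.map_comp] at h3
    exact h3.symm
  · rw [hh.2.2.1] at hxY
    refine ⟨U ⊓ ⟨_, hh.1.isOpen_compl⟩, inf_le_left, ⟨hx, hxY⟩, 0, ?_⟩
    refine (TopCat.Presheaf.section_ext (⟨pab T, T.isSheaf⟩ : TopCat.Sheaf Ab.{u} Xh.toTopCat) _ _ _ fun w hw => ?_)
    exact absurd (hh.2.2.1.le ⟨w, rfl⟩) hw.2

include hh in
/-- The unit is an isomorphism on modules killed by a power of the ideal. -/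
theorem isIso_η {H : X.Modules} {n : ℕ} (hH : Formal.KilledBy (I ^ n) H) : IsIso (η ι H) := by
  let F := H10Coh.shF X
  let f := F.map (η ι H)
  haveI : Mono f := by
    haveI : Mono f.hom := by
      haveI : ∀ U, Mono (f.hom.app U) := fun U =>
        (AddCommGrpCat.mono_iff_injective _).2 (injective_η_app ι hh hH U.unop)
      exact NatTrans.mono_of_mono_app _
    exact (sheafToPresheaf _ _).mono_of_mono_map this
  haveI : Epi f := H10Coh.epi_of_locally_surjective f fun U t x hx => by
    obtain ⟨V, hV, hxV, s, hs⟩ := locally_surjective_η ι hh hH U t x hx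
    exact ⟨V, hV, hxV, s, hs⟩
  haveI : IsIso f := isIso_of_mono_of_epi f
  exact isIso_of_reflects_iso (η ι H) F

end Groth.Agent.LeadHens
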