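import Groth.Agent.LeadHens.Alg
import Groth.Agent.H26Hens.Lift
import Groth.Agent.H26Hens.Glue
import Groth.Agent.H26Hens.Flat

/-!
# The affine Henselian charts at a point
-/

set_option autoImplicit false
set_option linter.style.haveILetI false
set_option linter.unusedSectionVars false

noncomputable section

universe u

open CategoryTheory Opposite TopologicalSpace Topology AlgebraicGeometry CategoryTheory.Limits

namespace Groth.Agent.LeadHens

open Groth.Agent.H26Hens

section Sph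

variable {R : Type u} [CommRing R] {J : Ideal R} {V : LocallyRingedSpace.{u}} {π : V ⟶ HensSch.specLRS R}
  (hV : HensSch.IsSph R J V π) (w : V) {C : Type u} [CommRing C] (g : R →+* C)

theorem dOpen_mul (f f' : R) : HensSch.dOpen π (f * f') ≤ HensSch.dOpen π f ∧
    HensSch.dOpen π (f * f') ≤ HensSch.dOpen π f' :=
  ⟨fun _ h => PrimeSpectrum.basicOpen_mul_le_left f f' h, fun _ h => PrimeSpectrum.basicOpen_mul_le_right f f' h⟩

include hV in
/-- A map killing the ideal up to nilpotents and inverting what is invertible at the point factors through the stalk. -/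
theorem exists_stalk_hom (hu : ∀ f : R, f ∉ (π.base w).asIdeal → IsUnit (g f)) (hnil : ∀ r ∈ J, IsNilpotent (g r)) :
    ∃ h : V.presheaf.stalk w →+* C, ∀ (f : R) (hf : w ∈ HensSch.dOpen π f) (r : R),
      h (V.presheaf.germ _ w hf (sec π (HensSch.dOpen π f) r)) = g r := by
  choose hh hhc using fun (f : R) (hf : w ∈ HensSch.dOpen π f) => exists_away_hom (hV.2.2 f) g (hu f hf) hnil
  have hres : ∀ (f f' : R) (hf : w ∈ HensSch.dOpen π f) (hf' : w ∈ HensSch.dOpen π f')
      (hle : HensSch.dOpen π f' ≤ HensSch.dOpen π f),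
      (hh f' hf').comp (V.presheaf.map (homOfLE hle).op).hom = hh f hf := fun f f' hf hf' hle => by
    have e : ((hh f' hf').comp (V.presheaf.map (homOfLE hle).op).hom).comp
        (HensSch.secMap π (PrimeSpectrum.basicOpen f)) = g := by
      rw [RingHom.comp_assoc, secMap_eq_sec, res_sec, ← secMap_eq_sec]
      exact hhc f' hf'
    refine away_hom_ext (hV.2.2 f) _ _ (e.trans (hhc f hf).symm) fun r hr => ?_
    rw [← RingHom.comp_apply, e]
    exact hnil r hr
  choose fU hfU hfUle using fun (U : OpenNhds w) => exists_dOpen_le hV w U.1 U.2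
  have hnat : ∀ (U U' : OpenNhds w) (hle : U'.1 ≤ U.1),
      ((hh _ (hfU U')).comp (V.presheaf.map (homOfLE (hfUle U')).op).hom).comp (V.presheaf.map (homOfLE hle).op).hom =
        (hh _ (hfU U)).comp (V.presheaf.map (homOfLE (hfUle U)).op).hom := fun U U' hle => by
    have hm : w ∈ HensSch.dOpen π (fU U * fU U') := fun h =>
      ((π.base w).isPrime.mem_or_mem h).elim (hfU U) (hfU U')
    rw [← hres _ _ (hfU U') hm (dOpen_mul _ _).2, ← hres _ _ (hfU U) hm (dOpen_mul _ _).1]
    simp only [RingHom.comp_assoc]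
    congr 1
    simp only [← CommRingCat.hom_comp, ← Functor.map_comp]
    rfl
  let c : Cocone ((OpenNhds.inclusion w).op ⋙ V.presheaf) :=
    { pt := CommRingCat.of C
      ι :=
        { app := fun U => CommRingCat.ofHom ((hh _ (hfU U.unop)).comp (V.presheaf.map (homOfLE (hfUle U.unop)).op).hom)
          naturality := fun U U' i => by
            apply CommRingCat.hom_ext
            exact (hnat U.unop U'.unop i.unop.le).trans (RingHom.id_comp _).symm } }
  refine ⟨(colimit.desc _ c).hom, fun f hf r => ?_⟩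
  have e := ConcreteCategory.congr_hom (colimit.ι_desc c (op (⟨HensSch.dOpen π f, hf⟩ : OpenNhds w)))
    (sec π (HensSch.dOpen π f) r)
  refine e.trans ?_
  show hh _ _ (((V.presheaf.map _).hom.comp (sec π (HensSch.dOpen π f))) r) = g r
  rw [res_sec, ← secMap_eq_sec]
  exact RingHom.congr_fun (hhc _ _) r

end Sph

theorem appLE_congr_hom {T Z : LocallyRingedSpace.{u}} {g g' : Z ⟶ T} (e : g = g') (W : Opens T) (D : Opens Z)
    (h : ∀ z ∈ D, g.base z ∈ W) (h' : ∀ z ∈ D, g'.base z ∈ W) : appLE g W D h = appLE g' W D h' := by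
  subst e
  rfl

variable {X : Scheme.{u}} [IsLocallyNoetherian X] {Y : Set X} {Xh : LocallyRingedSpace.{u}}
  {ι : Xh ⟶ X.toLocallyRingedSpace}

/-- The Henselization has charts at every point. -/
theorem hasCharts (hh : HensSch.IsHenselizationAlong X Y Xh ι) (y : Xh) (𝔞 : Ideal (X.presheaf.stalk (ι.base y)))
    (h𝔞 : 𝔞 ≤ IsLocalRing.maximalIdeal _)
    (hJ : ∀ (U : X.Opens) (_ : IsAffineOpen U) (hU : ι.base y ∈ U) (r : Γ(X, U)),
      (∀ z ∈ Y, ∀ hz : z ∈ U, ¬ IsUnit (X.presheaf.germ U z hz r)) → X.presheaf.germ U _ hU r ∈ 𝔞.radical) :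
    letI := (ι.stalkMap y).hom.toAlgebra
    HasCharts (S := Xh.presheaf.stalk y) 𝔞 := by
  let O := X.presheaf.stalk (ι.base y)
  letI : Algebra O (Xh.presheaf.stalk y) := (ι.stalkMap y).hom.toAlgebra
  haveI : IsLocalHom (algebraMap O (Xh.presheaf.stalk y)) := inferInstanceAs (IsLocalHom (ι.stalkMap y).hom)
  obtain ⟨-, -, hr, hloc⟩ := hh
  obtain ⟨R, _, j, _, hxj, V, v, _, π, hv, hcomm, hsph⟩ := hloc (ι.base y) (hr ▸ ⟨y, rfl⟩)
  obtain ⟨w, rfl⟩ : y ∈ Set.range v.base := hv ▸ hxj
  let U := j ''ᵁ ⊤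
  have hU : IsAffineOpen U := (isAffineOpen_top _).image_of_isOpenImmersion j
  have hwU : ι.base (v.base w) ∈ U := by
    refine ⟨π.base w, trivial, ?_⟩
    exact (congrArg (fun q : V ⟶ X.toLocallyRingedSpace => q.base w) hcomm).symm
  let θ : CommRingCat.of R ≅ Γ(X, U) := (Scheme.ΓSpecIso (CommRingCat.of R)).symm ≪≫ (j.appIso ⊤).symm
  haveI : IsNoetherianRing R := by
    haveI : IsNoetherianRing Γ(X, U) := IsLocallyNoetherian.component_noetherian ⟨U, hU⟩
    exact isNoetherianRing_of_ringEquiv Γ(X, U) θ.symm.commRingCatIsoToRingEquiv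
  -- the base ring at the point
  let eR : R →+* O := (X.presheaf.germ U _ hwU).hom.comp θ.hom.hom
  letI := eR.toAlgebra
  let P : Ideal R := (IsLocalRing.maximalIdeal O).comap eR
  haveI : P.IsPrime := Ideal.IsPrime.comap _
  haveI : IsLocalization.AtPrime O P := by
    letI := TopCat.Presheaf.algebra_section_stalk X.presheaf (⟨_, hwU⟩ : U)
    haveI hl : IsLocalization.AtPrime O (hU.primeIdealOf ⟨_, hwU⟩).asIdeal := hU.isLocalization_stalk ⟨_, hwU⟩
    let θe : Γ(X, U) ≃+* R := θ.symm.commRingCatIsoToRingEquiv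
    have h2 := IsLocalization.isLocalization_of_base_ringEquiv (hU.primeIdealOf ⟨_, hwU⟩).asIdeal.primeCompl O θe
    have he : ((algebraMap Γ(X, U) O).comp θe.symm.toRingHom) = eR := rfl
    have hS : (hU.primeIdealOf ⟨_, hwU⟩).asIdeal.primeCompl.map θe.toMonoidHom = P.primeCompl := by
      have hP : (IsLocalRing.maximalIdeal O).comap (algebraMap Γ(X, U) O) = (hU.primeIdealOf ⟨_, hwU⟩).asIdeal :=
        (IsLocalization.AtPrime.comap_maximalIdeal O _)
      ext r
      constructor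
      · rintro ⟨x, hx, rfl⟩ hr
        refine hx (hP.le (Ideal.mem_comap.2 ?_))
        have : eR (θe x) = algebraMap Γ(X, U) O x := by rw [← he]; simp
        rw [← this]; exact hr
      · intro hr
        refine ⟨θe.symm r, fun hx => hr ?_, θe.apply_symm_apply r⟩
        exact hP.ge hx
    exact (congrArg (fun M : Submonoid R => IsLocalization M O) hS).mp h2
  -- the point of `V`
  have hvb : ∀ D : Opens V, ∀ z ∈ D, (v ≫ ι).base z ∈ U := fun D z _ => by
    rw [hcomm]; exact ⟨π.base z, trivial, rfl⟩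
  have hsec : ∀ (D : Opens V) (hwD : w ∈ D) (r : R),
      (v.stalkMap w) ((ι.stalkMap (v.base w)) (eR r)) = V.presheaf.germ D w hwD (sec π D r) := fun D hwD r => by
    have h1 : appLE (v ≫ ι) U D (hvb D) (θ.hom r) = sec π D r := by
      have hjD : ∀ z ∈ D, (π ≫ j.toLRSHom).base z ∈ U := fun z _ => ⟨π.base z, trivial, rfl⟩
      rw [appLE_congr_hom hcomm U D (hvb D) hjD,
        ← appLE_appLE π j.toLRSHom U ⊤ D (fun z hz => ⟨z, hz, rfl⟩) (fun z _ => trivial)]
      show appLE π ⊤ D (fun z _ => trivial) (j.appLE U ⊤ (j.preimage_image_eq ⊤).ge ((j.appIso ⊤).inv ((Scheme.ΓSpecIso (CommRingCat.of R)).inv r))) = _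
      rw [← CommRingCat.comp_apply ((j.appIso ⊤).inv), Scheme.Hom.appIso_inv_appLE, Subsingleton.elim (homOfLE _).op (𝟙 (op ⊤)),
        CategoryTheory.Functor.map_id, CommRingCat.id_apply]
      rfl
    rw [← h1]
    show (v.stalkMap w) ((ι.stalkMap (v.base w)) (X.presheaf.germ U _ hwU (θ.hom r))) = _
    erw [LocallyRingedSpace.stalkMap_germ_apply, LocallyRingedSpace.stalkMap_germ_apply]
    exact (TopCat.Presheaf.germ_res_apply V.presheaf _ w hwD _).symm
  have hunit : ∀ f : R, f ∉ (π.base w).asIdeal ↔ IsUnit (eR f) := fun f => by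
    rw [← isUnit_germ_sec π ⊤ w trivial f, ← hsec ⊤ trivial f]
    constructor
    · intro h
      exact (isUnit_map_iff (ι.stalkMap (v.base w)).hom _).1 ((isUnit_map_iff (v.stalkMap w).hom _).1 h)
    · intro h
      exact (h.map (ι.stalkMap (v.base w)).hom).map (v.stalkMap w).hom
  have hJ' : (PrimeSpectrum.vanishingIdeal (j.base ⁻¹' Y)).map eR ≤ 𝔞.radical := by
    refine Ideal.map_le_iff_le_comap.2 fun r hr => hJ U hU hwU (θ.hom r) fun z hzY hz hu => ?_
    obtain ⟨z', -, rfl⟩ := id hz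
    have h1 : j z' ∈ X.basicOpen (θ.hom r) := (X.mem_basicOpen (θ.hom r) (j z') _).2 hu
    have h2 : z' ∈ j ⁻¹ᵁ X.basicOpen (θ.hom r) := h1
    rw [Scheme.preimage_basicOpen] at h2
    have h3 : j.app U (θ.hom r) = (Spec (CommRingCat.of R)).presheaf.map
        (homOfLE (le_top : j ⁻¹ᵁ U ≤ ⊤)).op ((Scheme.ΓSpecIso (CommRingCat.of R)).inv r) := by
      show j.app U ((j.appIso ⊤).inv _) = _
      rw [← CommRingCat.comp_apply, Scheme.Hom.appIso_inv_app]
      rfl
    rw [h3, Scheme.basicOpen_res, basicOpen_eq_of_affine] at h2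
    have h4 := h2.2
    simp only [Iso.inv_hom_id_apply] at h4
    exact h4 ((PrimeSpectrum.mem_vanishingIdeal _ r).1 hr z' hzY)
  -- retractions
  let g : ∀ n : ℕ, R →+* O ⧸ 𝔞 ^ n := fun n => (Ideal.Quotient.mk (𝔞 ^ n)).comp eR
  have hnil : ∀ n, ∀ r ∈ PrimeSpectrum.vanishingIdeal (j.base ⁻¹' Y), IsNilpotent (g n r) := fun n r hr => by
    obtain ⟨k, hk⟩ := hJ' (Ideal.mem_map_of_mem _ hr)
    refine ⟨k * n, ?_⟩
    show (Ideal.Quotient.mk (𝔞 ^ n) (eR r)) ^ (k * n) = 0
    rw [← map_pow, Ideal.Quotient.eq_zero_iff_mem, pow_mul]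
    exact Ideal.pow_mem_pow hk n
  choose hV' hV'g using fun n => exists_stalk_hom hsph w (g n)
    (fun f hf => ((hunit f).1 hf).map (Ideal.Quotient.mk (𝔞 ^ n))) (hnil n)
  let ρ : ∀ n, Xh.presheaf.stalk (v.base w) →+* O ⧸ 𝔞 ^ n := fun n => (hV' n).comp (v.stalkMap w).hom
  have h1top : w ∈ HensSch.dOpen π (1 : R) := (Ideal.ne_top_iff_one _).1 (π.base w).isPrime.ne_top
  have hρ : ∀ n, (ρ n).comp (algebraMap O (Xh.presheaf.stalk (v.base w))) = Ideal.Quotient.mk (𝔞 ^ n) := fun n => by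
    refine IsLocalization.ringHom_ext P.primeCompl (RingHom.ext fun r => ?_)
    show hV' n ((v.stalkMap w) ((ι.stalkMap (v.base w)) (eR r))) = g n r
    rw [hsec _ h1top r]
    exact hV'g n 1 h1top r
  refine ⟨ρ, hρ, fun F => ?_⟩
  classical
  choose D hD t ht using fun s : Xh.presheaf.stalk (v.base w) => V.presheaf.exists_germ_eq ((v.stalkMap w) s)
  obtain ⟨f, hwf, hf⟩ := exists_dOpen_le hsph w (F.inf D)
    (by simpa [← SetLike.mem_coe, Opens.coe_finset_inf] using fun s _ => hD s)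
  let e := RingEquiv.ofBijective (v.stalkMap w).hom (ConcreteCategory.bijective_of_isIso (v.stalkMap w))
  let hS : V.presheaf.obj (op (HensSch.dOpen π f)) →+* Xh.presheaf.stalk (v.base w) :=
    e.symm.toRingHom.comp (V.presheaf.germ _ w hwf).hom
  have hc : hS.comp (HensSch.secMap π (PrimeSpectrum.basicOpen f)) =
      (algebraMap O (Xh.presheaf.stalk (v.base w))).comp (algebraMap R O) := RingHom.ext fun r => by
    refine e.injective ((e.apply_symm_apply _).trans ?_)
    exact (hsec _ hwf r).symm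
  obtain ⟨L, i₁, i₂, i₃, τ, h, hτ, hmax, hrange, hcong⟩ :=
    exists_local_chart P hJ' h𝔞 ρ hρ (hsph.2.2 f) hS hc
  refine ⟨L, i₁, i₂, i₃, τ, h, hτ, hmax, fun s hs => hrange ?_, hcong⟩
  refine ⟨V.presheaf.map (homOfLE (hf.trans (Finset.inf_le (Finset.mem_coe.1 hs)))).op (t s), e.injective ?_⟩
  refine (e.apply_symm_apply _).trans ?_
  show V.presheaf.germ _ w hwf _ = (v.stalkMap w) s
  rw [TopCat.Presheaf.germ_res_apply, ht]

end Groth.Agent.LeadHens
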